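import Mathlib

/-!
K-SQ (S4625): generic tools.  `SylSq X`: the finite group `X` has a 2-subgroup `U` of odd index (a Sylow
2-subgroup) such that the square of every element of `U` lies in `⁅U, U⁆`.
-/

set_option autoImplicit false

namespace Cfsg.Agent.Lib.Helper38.SQ

variable {X Y : Type*} [Group X] [Group Y]

/-- `X` has a 2-subgroup `U` of odd index in which every square lies in the derived subgroup `⁅U, U⁆`. -/
def SylSq (X : Type*) [Group X] : Prop :=
  ∃ U : Subgroup X, IsPGroup 2 U ∧ ¬ 2 ∣ U.index ∧ ∀ x ∈ U, x ^ 2 ∈ ⁅U, U⁆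

/-- in a group generated by elements whose squares are products of commutators, every square is a
product of commutators -/
theorem sq_mem_commutator_of_closure_top {U : Type*} [Group U] (S : Set U)
    (hS : Subgroup.closure S = ⊤) (h : ∀ s ∈ S, s ^ 2 ∈ commutator U) :
    ∀ x : U, x ^ 2 ∈ commutator U := by
  let φ : U →* Abelianization U := Abelianization.of
  have hker : ∀ y : U, y ∈ commutator U ↔ φ y = 1 := by
    intro y
    rw [← MonoidHom.mem_ker, Abelianization.ker_of]
  let T : Subgroup (Abelianization U) :=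
    { carrier := {a | a ^ 2 = 1}
      mul_mem' := by
        intro a b ha hb
        change a ^ 2 = 1 at ha; change b ^ 2 = 1 at hb; change (a * b) ^ 2 = 1
        rw [mul_pow, ha, hb, one_mul]
      one_mem' := by simp
      inv_mem' := by
        intro a ha
        change a ^ 2 = 1 at ha; change a⁻¹ ^ 2 = 1
        rw [inv_pow, ha, inv_one] }
  have hle : Subgroup.closure S ≤ T.comap φ := by
    rw [Subgroup.closure_le]
    intro s hs
    show φ s ^ 2 = 1
    rw [← map_pow]
    exact (hker _).mp (h s hs)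
  intro x
  have hx : x ∈ T.comap φ := hle (by rw [hS]; trivial)
  have hx' : φ x ^ 2 = 1 := hx
  rw [hker, map_pow]
  exact hx'

/-- subgroup version: `U = closure S` inside `X`, squares of the generators in `⁅U, U⁆` -/
theorem sq_mem_commutator_of_closure (U : Subgroup X) (S : Set X) (hU : U = Subgroup.closure S)
    (h : ∀ s ∈ S, s ^ 2 ∈ ⁅U, U⁆) : ∀ x ∈ U, x ^ 2 ∈ ⁅U, U⁆ := by
  have hSU : S ⊆ U := by rw [hU]; exact Subgroup.subset_closure
  have hmap : (commutator U).map U.subtype = ⁅U, U⁆ := Subgroup.map_subtype_commutator U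
  let S' : Set U := {s | (s : X) ∈ S}
  have hS' : Subgroup.closure S' = ⊤ := by
    apply Subgroup.map_injective U.subtype_injective
    rw [MonoidHom.map_closure, ← MonoidHom.range_eq_map, Subgroup.range_subtype]
    have : U.subtype '' S' = S := by
      ext y
      constructor
      · rintro ⟨s, hs, rfl⟩; exact hs
      · intro hy; exact ⟨⟨y, hSU hy⟩, hy, rfl⟩
    rw [this, hU]
  have h' : ∀ s ∈ S', s ^ 2 ∈ commutator U := by
    intro s hs
    have h1 : ((s : X)) ^ 2 ∈ (commutator U).map U.subtype := by rw [hmap]; exact h _ hs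
    obtain ⟨t, ht, hts⟩ := h1
    have : t = s ^ 2 := Subtype.ext (by simpa using hts)
    rw [← this]; exact ht
  intro x hx
  have := sq_mem_commutator_of_closure_top S' hS' h' ⟨x, hx⟩
  rw [← hmap]
  exact ⟨_, this, rfl⟩

/-- `SylSq` passes to homomorphic images -/
theorem SylSq.of_surjective (f : X →* Y) (hf : Function.Surjective f) (h : SylSq X) : SylSq Y := by
  obtain ⟨U, hp, hi, hsq⟩ := h
  refine ⟨U.map f, hp.map f, ?_, ?_⟩
  · intro h2
    exact hi (dvd_trans h2 (Subgroup.index_map_dvd U hf))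
  · rintro _ ⟨u, hu, rfl⟩
    rw [← map_pow, ← Subgroup.map_commutator]
    exact Subgroup.mem_map_of_mem f (hsq u hu)

theorem SylSq.of_mulEquiv (e : X ≃* Y) (h : SylSq X) : SylSq Y :=
  SylSq.of_surjective e.toMonoidHom e.surjective h

theorem SylSq.quotient (N : Subgroup X) [N.Normal] (h : SylSq X) : SylSq (X ⧸ N) :=
  SylSq.of_surjective (QuotientGroup.mk' N) (QuotientGroup.mk'_surjective N) h

/-- a 2-subgroup whose order is at least the 2-part of the order of the group has odd index -/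
theorem not_two_dvd_index_of_card [Finite X] (U : Subgroup X) (hpU : IsPGroup 2 U) (N m : ℕ)
    (hX : Nat.card X = 2 ^ N * m) (hm : ¬ 2 ∣ m) (hU : 2 ^ N ≤ Nat.card U) : ¬ 2 ∣ U.index := by
  intro h2
  have : Fact (Nat.Prime 2) := ⟨Nat.prime_two⟩
  obtain ⟨a, ha⟩ := IsPGroup.iff_card.mp hpU
  have hmul : Nat.card U * U.index = 2 ^ N * m := by rw [Subgroup.card_mul_index, hX]
  rw [ha] at hmul hU
  have hNa : N ≤ a := (Nat.pow_le_pow_iff_right (by norm_num)).mp hU
  obtain ⟨d, rfl⟩ := Nat.exists_eq_add_of_le hNa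
  rw [pow_add, mul_assoc] at hmul
  have hm' : 2 ^ d * U.index = m := Nat.eq_of_mul_eq_mul_left (by positivity) hmul
  apply hm
  rw [← hm']
  exact dvd_mul_of_dvd_right h2 _

/-- `Unip2 X c`: `X` has a 2-subgroup `U` of order at least `c` in which every square lies in `⁅U, U⁆`. -/
def Unip2 (X : Type*) [Group X] (c : ℕ) : Prop :=
  ∃ U : Subgroup X, IsPGroup 2 U ∧ c ≤ Nat.card U ∧ ∀ x ∈ U, x ^ 2 ∈ ⁅U, U⁆

/-- `TwoPart X c`: `|X| = c * m` with `m` odd. -/
def TwoPart (X : Type*) [Group X] (c : ℕ) : Prop :=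
  ∃ m : ℕ, ¬ 2 ∣ m ∧ Nat.card X = c * m

/-- a unipotent subgroup of the right order is a Sylow 2-subgroup -/
theorem SylSq.of_unip_twoPart [Finite X] (N : ℕ) (hu : Unip2 X (2 ^ N)) (ht : TwoPart X (2 ^ N)) :
    SylSq X := by
  obtain ⟨U, hp, hc, hsq⟩ := hu
  obtain ⟨m, hm, hX⟩ := ht
  exact ⟨U, hp, not_two_dvd_index_of_card U hp N m hX hm hc, hsq⟩

/-- `Unip2` is transported by injective homomorphisms -/
theorem Unip2.of_injective (c : ℕ) (f : X →* Y) (hf : Function.Injective f) (h : Unip2 X c) :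
    Unip2 Y c := by
  obtain ⟨U, hp, hc, hsq⟩ := h
  refine ⟨U.map f, hp.map f, ?_, ?_⟩
  · rw [← Nat.card_congr (U.equivMapOfInjective f hf).toEquiv]; exact hc
  · rintro _ ⟨u, hu, rfl⟩
    rw [← map_pow, ← Subgroup.map_commutator]
    exact Subgroup.mem_map_of_mem f (hsq u hu)

/-- the conclusion of S4625 for all Sylow 2-subgroups from `SylSq` -/
theorem SylSq.sylow [Finite X] (h : SylSq X) (P : Sylow 2 X) :
    ∀ x : (P : Subgroup X), x ^ 2 ∈ commutator (P : Subgroup X) := by
  have : Fact (Nat.Prime 2) := ⟨Nat.prime_two⟩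
  obtain ⟨U, hp, hi, hsq⟩ := h
  -- U is a Sylow 2-subgroup
  let Q : Sylow 2 X := hp.toSylow hi
  have hQ : (Q : Subgroup X) = U := rfl
  obtain ⟨g, hg⟩ := MulAction.exists_smul_eq X Q P
  have hPU : (P : Subgroup X) = U.map (MulAut.conj g).toMonoidHom := by
    rw [← hg, Sylow.coe_subgroup_smul, hQ]
    rfl
  have key : ∀ y ∈ (P : Subgroup X), y ^ 2 ∈ ⁅(P : Subgroup X), (P : Subgroup X)⁆ := by
    intro y hy
    rw [hPU] at hy ⊢
    obtain ⟨u, hu, rfl⟩ := hy
    rw [← map_pow, ← Subgroup.map_commutator]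
    exact Subgroup.mem_map_of_mem _ (hsq u hu)
  intro x
  have h1 := key x x.2
  rw [← Subgroup.map_subtype_commutator] at h1
  obtain ⟨t, ht, hts⟩ := h1
  have : t = x ^ 2 := Subtype.ext (by simpa using hts)
  rw [← this]; exact ht

end Cfsg.Agent.Lib.Helper38.SQ
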