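import Cfsg.Agent.Lib.Helper24.UCard
import Cfsg.Agent.Lib.Helper38.SQ.Defs

/-!
# K-SQ pack (S4625): the generic lemma for the untwisted exceptional Chevalley groups, LIGHT closure

In characteristic 2 the subgroup `U = ⟨x_r(t) : r > 0⟩` is generated by involutions and has order
`q ^ (number of positive roots)` (`Helper24.Facts.card_posUnipotent`), so it witnesses `SylSq` as soon as the order
of the group is `q ^ N * (odd)`. This is helper51's draft `notes/SQChev_helper51_UNVERIFIED.lean.txt`, restated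
over the five fields of `Helper24.Env` it uses, so that it only needs `Helper24.UCard` (no table module).
-/

set_option autoImplicit false

namespace Cfsg.Agent.Lib.Helper38.SQ

open Cfsg Cfsg.Lie Cfsg.Agent.Lib.Helper24

variable {F : Type*} [Field F] [Fintype F] [CharP F 2] {D : ChevalleyDatum}

/-- the positive unipotent subgroup, generated by involutions, inside the Chevalley group -/
theorem unip2_of_facts (hF : Facts D) (hC : ChainOK D) (hU : UFacts D) (hNR : negRevOK D = true)
    (hcomm : ∀ r < D.nroots, ∀ s < D.nroots, s ≠ r → s ≠ D.neg r → hF.QF F r s) :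
    Unip2 ↥(D.group F) (Fintype.card F ^ (D.nroots / 2)) := by
  have hle : D.posUnipotent F ≤ D.group F := hF.pos_le_group
  have hcard : Nat.card (D.posUnipotent F) = Fintype.card F ^ (D.nroots / 2) :=
    hF.card_posUnipotent hC hU hNR hcomm
  obtain ⟨k, -, hk⟩ := FiniteField.card F 2
  have hp : IsPGroup 2 ↥(D.posUnipotent F) :=
    IsPGroup.of_card (n := (k : ℕ) * (D.nroots / 2)) (by rw [hcard, hk, pow_mul])
  have hU : Unip2 ↥(D.posUnipotent F) (Fintype.card F ^ (D.nroots / 2)) := by
    refine ⟨⊤, hp.to_subgroup ⊤, ?_, ?_⟩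
    · rw [Subgroup.card_top, hcard]
    · intro x _
      have h1 := sq_mem_commutator_of_closure_top
        (U := ↥(D.posUnipotent F))
        (((↑) : ↥(D.posUnipotent F) → GL D.Idx F) ⁻¹'
          {g | ∃ (r : ℕ) (t : F), D.IsPosRoot r ∧ (g : Matrix D.Idx D.Idx F) = D.x F r t})
        (by
          unfold ChevalleyDatum.posUnipotent
          exact Subgroup.closure_closure_coe_preimage)
        (by
          rintro s ⟨r, t, -, hs⟩
          have e : (s : GL D.Idx F) = hF.xGL r t := hF.eq_xGL _ r t hs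
          have h2 : s ^ 2 = 1 := by
            apply Subtype.ext
            rw [Subgroup.coe_pow, e, pow_two, hF.xGL_mul, CharTwo.add_self_eq_zero,
              hF.xGL_zero]
            rfl
          rw [h2]
          exact Subgroup.one_mem _) x
      exact h1
  exact Unip2.of_injective _ (Subgroup.inclusion hle) (Subgroup.inclusion_injective hle) hU

/-- the generic leaf: `|G| = q ^ N * m` with `m` odd gives `SylSq` -/
theorem sylSq_of_facts (hF : Facts D) (hC : ChainOK D) (hU : UFacts D) (hNR : negRevOK D = true)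
    (hcomm : ∀ r < D.nroots, ∀ s < D.nroots, s ≠ r → s ≠ D.neg r → hF.QF F r s)
    (m : ℕ) (hm : ¬ 2 ∣ m)
    (hX : Nat.card ↥(D.group F) = Fintype.card F ^ (D.nroots / 2) * m) : SylSq ↥(D.group F) := by
  obtain ⟨k, -, hk⟩ := FiniteField.card F 2
  have e : Fintype.card F ^ (D.nroots / 2) = 2 ^ ((k : ℕ) * (D.nroots / 2)) := by
    rw [hk, pow_mul]
  have hu := unip2_of_facts hF hC hU hNR hcomm
  rw [e] at hu hX
  exact SylSq.of_unip_twoPart _ hu ⟨m, hm, hX⟩

/-- `q ^ j - 1` is odd for even `q` -/
theorem not_two_dvd_pow_sub_one {q : ℕ} (hq : 2 ∣ q) (hq0 : 0 < q) (j : ℕ) (hj : 1 ≤ j) :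
    ¬ 2 ∣ q ^ j - 1 := by
  have h1 : 2 ∣ q ^ j := dvd_pow hq (by omega)
  have h2 : 1 ≤ q ^ j := Nat.one_le_pow _ _ hq0
  omega

theorem not_two_dvd_mul {a b : ℕ} (ha : ¬ 2 ∣ a) (hb : ¬ 2 ∣ b) : ¬ 2 ∣ a * b :=
  fun h => (Nat.prime_two.dvd_mul.mp h).elim ha hb

/-- the cardinality of a finite field of characteristic two is even and positive -/
theorem two_dvd_card (F : Type*) [Field F] [Fintype F] [CharP F 2] :
    2 ∣ Fintype.card F ∧ 0 < Fintype.card F := by
  obtain ⟨k, -, hk⟩ := FiniteField.card F 2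
  exact ⟨by rw [hk]; exact dvd_pow_self 2 k.ne_zero, Fintype.card_pos⟩

end Cfsg.Agent.Lib.Helper38.SQ
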