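import Cfsg.Agent.Lib.Helper38.SQ.Chev

/-!
# K-SQ pack (S4625): the generic Chevalley lemma, variant with an odd factor in front of the order
(`Helper24.ord_E6` and `Helper24.ord_E7` are stated as `gcd(d, q - 1) * |G| = q ^ N * ...`)
-/

set_option autoImplicit false

namespace Cfsg.Agent.Lib.Helper38.SQ

open Cfsg Cfsg.Lie Cfsg.Agent.Lib.Helper24

/-- arithmetic: `d * c = 2 ^ K * m` with `d`, `m` odd gives `c = 2 ^ K * m'` with `m'` odd -/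
theorem exists_odd_cofactor {d c K m : ℕ} (hd : ¬ 2 ∣ d) (hm : ¬ 2 ∣ m) (h : d * c = 2 ^ K * m) :
    ∃ m' : ℕ, ¬ 2 ∣ m' ∧ c = 2 ^ K * m' := by
  have hcop : Nat.Coprime (2 ^ K) d :=
    Nat.Coprime.pow_left K ((Nat.Prime.coprime_iff_not_dvd Nat.prime_two).mpr hd)
  have hdvd : 2 ^ K ∣ c := by
    have h1 : 2 ^ K ∣ d * c := ⟨m, h⟩
    exact hcop.dvd_of_dvd_mul_left h1
  obtain ⟨m', rfl⟩ := hdvd
  refine ⟨m', ?_, rfl⟩
  intro h2
  apply hm
  have h3 : 2 ^ K * (d * m') = 2 ^ K * m := by rw [← h]; ring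
  have h4 : d * m' = m := Nat.eq_of_mul_eq_mul_left (by positivity) h3
  rw [← h4]
  exact Dvd.dvd.mul_left h2 d

variable {F : Type*} [Field F] [Fintype F] [CharP F 2] {D : ChevalleyDatum}

/-- the generic leaf: `d * |G| = q ^ N * m` with `d`, `m` odd gives `SylSq` -/
theorem sylSq_of_facts_mul (hF : Facts D) (hC : ChainOK D) (hU : UFacts D) (hNR : negRevOK D = true)
    (hcomm : ∀ r < D.nroots, ∀ s < D.nroots, s ≠ r → s ≠ D.neg r → hF.QF F r s)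
    (d m : ℕ) (hd : ¬ 2 ∣ d) (hm : ¬ 2 ∣ m)
    (hX : d * Nat.card ↥(D.group F) = Fintype.card F ^ (D.nroots / 2) * m) : SylSq ↥(D.group F) := by
  obtain ⟨k, -, hk⟩ := FiniteField.card F 2
  have e : Fintype.card F ^ (D.nroots / 2) = 2 ^ ((k : ℕ) * (D.nroots / 2)) := by
    rw [hk, pow_mul]
  have hu := unip2_of_facts hF hC hU hNR hcomm
  rw [e] at hu hX
  obtain ⟨m', hm', hc⟩ := exists_odd_cofactor hd hm hX
  exact SylSq.of_unip_twoPart _ hu ⟨m', hm', hc⟩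

/-- `gcd 3 _` is odd -/
theorem not_two_dvd_gcd_three (a : ℕ) : ¬ 2 ∣ Nat.gcd 3 a := by
  intro h
  have h3 : 2 ∣ 3 := Nat.dvd_trans h (Nat.gcd_dvd_left 3 a)
  omega

/-- `gcd 2 (q - 1)` is odd for even positive `q` -/
theorem not_two_dvd_gcd_two {q : ℕ} (hq : 2 ∣ q) (hq0 : 0 < q) : ¬ 2 ∣ Nat.gcd 2 (q - 1) := by
  intro h
  have h3 : 2 ∣ q - 1 := Nat.dvd_trans h (Nat.gcd_dvd_right 2 (q - 1))
  omega

end Cfsg.Agent.Lib.Helper38.SQ
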