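import Cfsg.Agent.Lib.Helper38.SQ.Leaves

/-!
K-SQ (S4625): glue.  Case analysis over `Cfsg.IsLieTypeChar 2 G`, transfer of `SylSq` along the
isomorphisms, conclusion for every Sylow 2-subgroup.
-/

set_option autoImplicit false

namespace Cfsg.Agent.Lib.Helper38.SQ

open Cfsg Cfsg.Agent.Lib.Helper38.SQ.L

theorem card_eq_two_pow' (F : Type) [Field F] [Fintype F] [CharP F 2] :
    ∃ k : ℕ, 1 ≤ k ∧ Fintype.card F = 2 ^ k := by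
  obtain ⟨n, hn⟩ := FiniteField.card F 2
  exact ⟨n, n.pos, hn.2⟩

theorem sylSq_of_lieTypeChar {G : Type*} [Group G] [Finite G]
    (hG : Cfsg.IsLieTypeChar 2 G) : SylSq G := by
  rcases hG with hL | hL | hL | hL | hL | hL | hL | hL | hL | hL | hL
  · obtain ⟨F, _, _, _, n, hn, -, ⟨e⟩⟩ := hL
    exact SylSq.of_mulEquiv e.symm (sylSq_psl F n hn)
  · obtain ⟨F, _, _, _, m, hm, -, ⟨e⟩⟩ := hL
    exact SylSq.of_mulEquiv e.symm (sylSq_psp F m hm)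
  · obtain ⟨F, _, _, _, n, q, hF, hn, hnq, ⟨e⟩⟩ := hL
    rcases Nat.even_or_odd' n with ⟨k, rfl | rfl⟩
    · exact SylSq.of_mulEquiv e.symm (sylSq_psu_even F k q hF (by omega))
    · refine SylSq.of_mulEquiv e.symm (sylSq_psu_odd F k q hF (by omega) ?_)
      rintro ⟨rfl, rfl⟩
      exact hnq ⟨rfl, rfl⟩
  · obtain ⟨F, _, _, _, m, -, hodd, -⟩ := hL
    exfalso
    obtain ⟨k, hk1, hk⟩ := card_eq_two_pow' F
    rw [hk] at hodd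
    have : Even (2 ^ k) := (Nat.even_pow' (by omega)).mpr even_two
    exact (Nat.not_odd_iff_even.mpr this) hodd
  · obtain ⟨F, _, _, _, m, hm, ⟨e⟩⟩ := hL
    exact SylSq.of_mulEquiv e.symm (sylSq_pomega_plus F m hm)
  · obtain ⟨F, _, _, _, m, a, b, hm, hab, ⟨e⟩⟩ := hL
    exact SylSq.of_mulEquiv e.symm (sylSq_pomega_minus F m hm a b hab)
  · obtain ⟨F, _, _, _, ⟨-, ⟨e⟩⟩ | ⟨⟨e⟩⟩ | ⟨⟨e⟩⟩ | ⟨⟨e⟩⟩ | ⟨⟨e⟩⟩⟩ := hL
    · exact SylSq.of_mulEquiv e.symm (sylSq_g2 F)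
    · exact SylSq.of_mulEquiv e.symm (sylSq_f4 F)
    · exact SylSq.of_mulEquiv e.symm (sylSq_e6 F)
    · exact SylSq.of_mulEquiv e.symm (sylSq_e7 F)
    · exact SylSq.of_mulEquiv e.symm (sylSq_e8 F)
  · obtain ⟨K, _, _, _, q, hq, ⟨hK, ⟨e⟩⟩ | ⟨hK, ⟨e⟩⟩⟩ := hL
    · exact SylSq.of_mulEquiv e.symm (sylSq_twistedE6 K q hq hK)
    · exact SylSq.of_mulEquiv e.symm (sylSq_twistedD4 K q hq hK)
  · obtain ⟨-, F, _, _, m, hm, hF, ⟨e⟩⟩ := hL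
    exact SylSq.of_mulEquiv e.symm (sylSq_sz F m hm hF)
  · obtain ⟨-, K, _, _, m, hm, hK, ⟨e⟩⟩ := hL
    exact SylSq.of_mulEquiv e.symm (sylSq_twistedF4 K m hm hK)
  · exact absurd hL.1 (by norm_num)

theorem main {G : Type*} [Group G] [Finite G] (hG : Cfsg.IsLieTypeChar 2 G) (P : Sylow 2 G) :
    ∀ x : (P : Subgroup G), x ^ 2 ∈ commutator (P : Subgroup G) :=
  (sylSq_of_lieTypeChar hG).sylow P

end Cfsg.Agent.Lib.Helper38.SQ
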