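import Cfsg.Statements.S4625
import Cfsg.Agent.Lib.Helper38.SQ.Defs
import Cfsg.Agent.Lib.Helper53.SQPSL
import Cfsg.Agent.Lib.Helper56.SQPSp
import Cfsg.Agent.Lib.Helper97.SQPSUeven
import Cfsg.Agent.Lib.Helper22.SQPSUg
import Cfsg.Agent.Lib.Helper27.SQOplus
import Cfsg.Agent.Lib.Helper50.SQOminus
import Cfsg.Agent.Lib.Helper68.SQG2
import Cfsg.Agent.Lib.Helper68.SQF4
import Cfsg.Agent.Lib.Helper68.SQE6
import Cfsg.Agent.Lib.Helper68.SQE7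
import Cfsg.Agent.Lib.Helper68.SQE8
import Cfsg.Agent.Lib.Helper21.SQ2E6
import Cfsg.Agent.Lib.Helper21.SQ3D4
import Cfsg.Agent.Lib.Helper91.SQSz
import Cfsg.Agent.Lib.Helper54.SQ2F4

set_option autoImplicit false
set_option linter.unusedVariables false

/-!
# K-SQ (S4625): the family leaves under fixed names (each one is a call of the delivered theorem)
-/

namespace Cfsg.Agent.Lib.Helper38.SQ.L

open Cfsg Cfsg.Agent.Lib.Helper38.SQ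

theorem sylSq_psl (F : Type) [Field F] [Fintype F] [CharP F 2] (n : ℕ) (hn : 2 ≤ n) :
    SylSq (Matrix.ProjectiveSpecialLinearGroup (Fin n) F) :=
  Cfsg.Agent.Lib.Helper53.SQ.sylSq_psl F n hn

theorem sylSq_psp (F : Type) [Field F] [Fintype F] [CharP F 2] (m : ℕ) (hm : 2 ≤ m) :
    SylSq (Cfsg.PSp m F) :=
  Cfsg.Agent.Lib.Helper56.SQ.sylSq_psp F m hm

theorem sylSq_psu_even (F : Type) [Field F] [Fintype F] [CharP F 2] (k q : ℕ)
    (hF : Fintype.card F = q ^ 2) (hk : 2 ≤ k) :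
    SylSq (Cfsg.PSU (2 * k) F q) :=
  Cfsg.Agent.Lib.Helper97.SQ.sylSq_psu_even F k q hF hk

theorem sylSq_psu_odd (F : Type) [Field F] [Fintype F] [CharP F 2] (k q : ℕ)
    (hF : Fintype.card F = q ^ 2) (hk : 1 ≤ k) (hkq : ¬ (k = 1 ∧ q = 2)) :
    SylSq (Cfsg.PSU (2 * k + 1) F q) :=
  Cfsg.Agent.Lib.Helper22.SQ.sylSq_psu_odd F k q hF hk hkq

theorem sylSq_pomega_plus (F : Type) [Field F] [Fintype F] [CharP F 2] (m : ℕ) (hm : 4 ≤ m) :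
    SylSq (Cfsg.POmega F (Cfsg.quadFormPlus m F)) :=
  Cfsg.Agent.Lib.Helper27.SQ.sylSq_pomega_plus F m hm

theorem sylSq_pomega_minus (F : Type) [Field F] [Fintype F] [CharP F 2] (m : ℕ) (hm : 4 ≤ m)
    (a b : F) (hab : ∀ z₁ z₂ : F, z₁ ^ 2 + a * z₁ * z₂ + b * z₂ ^ 2 = 0 → z₁ = 0 ∧ z₂ = 0) :
    SylSq (Cfsg.POmega F (Cfsg.quadFormMinus (m - 1) F a b)) :=
  Cfsg.Agent.Lib.Helper50.SQ.sylSq_pomega_minus F m hm a b hab

theorem sylSq_g2 (F : Type) [Field F] [Fintype F] [CharP F 2] :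
    SylSq (Cfsg.Lie.chevG2.group F) :=
  Cfsg.Agent.Lib.Helper68.SQ.sylSq_g2 F

theorem sylSq_f4 (F : Type) [Field F] [Fintype F] [CharP F 2] :
    SylSq (Cfsg.Lie.chevF4.group F) :=
  Cfsg.Agent.Lib.Helper68.SQ.sylSq_f4 F

theorem sylSq_e6 (F : Type) [Field F] [Fintype F] [CharP F 2] :
    SylSq (Cfsg.Lie.chevE6.group F) :=
  Cfsg.Agent.Lib.Helper68.SQ.sylSq_e6 F

theorem sylSq_e7 (F : Type) [Field F] [Fintype F] [CharP F 2] :
    SylSq (Cfsg.Lie.chevE7.group F) :=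
  Cfsg.Agent.Lib.Helper68.SQ.sylSq_e7 F

theorem sylSq_e8 (F : Type) [Field F] [Fintype F] [CharP F 2] :
    SylSq (Cfsg.Lie.chevE8.group F) :=
  Cfsg.Agent.Lib.Helper68.SQ.sylSq_e8 F

theorem sylSq_twistedE6 (K : Type) [Field K] [Fintype K] [CharP K 2] (q : ℕ) (hq : IsPrimePow q)
    (hK : Fintype.card K = q ^ 2) :
    SylSq (Cfsg.Lie.twistedE6 K q) :=
  Cfsg.Agent.Lib.Helper21.SQ.sylSq_twistedE6 K q hq hK

theorem sylSq_twistedD4 (K : Type) [Field K] [Fintype K] [CharP K 2] (q : ℕ) (hq : IsPrimePow q)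
    (hK : Fintype.card K = q ^ 3) :
    SylSq (Cfsg.Lie.twistedD4 K q) :=
  Cfsg.Agent.Lib.Helper21.SQ.sylSq_twistedD4 K q hq hK

theorem sylSq_sz (F : Type) [Field F] [Fintype F] (m : ℕ) (hm : 1 ≤ m)
    (hF : Fintype.card F = 2 ^ (2 * m + 1)) :
    SylSq (Cfsg.Lie.Sz F (2 ^ (m + 1))) :=
  Cfsg.Agent.Lib.Helper91.SQ.sylSq_sz F m hm hF

theorem sylSq_twistedF4 (K : Type) [Field K] [Fintype K] (m : ℕ) (hm : 1 ≤ m)
    (hK : Fintype.card K = 2 ^ (2 * m + 1)) :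
    SylSq (Cfsg.Lie.twistedF4 K (2 ^ m)) :=
  Cfsg.Agent.Lib.Helper54.SQ.sylSq_twistedF4 K m hm hK

end Cfsg.Agent.Lib.Helper38.SQ.L
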